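import Cfsg.Agent.Mrg.Omega.IId.SwCv.SylHatOf
import Cfsg.Agent.Mrg.Omega.IId.SymWrD.Ht.HatEnd


/-!
# II.d, `SwCv K`: `SwTT K` (bb OMEGA #21666, #22558 (5))

* `swTT_of_hat` : `SwTT K` from `PosExit` and `ExHat` (SYL^);
* `swCv_of_hat` : `SwCv K` from `PosExit`, `ExHat` and the unmixed sockets.
-/

set_option autoImplicit false
set_option linter.unusedSectionVars false

namespace Cfsg.Agent.Omega.IId.SwCvC

open Subgroup Pointwise Cfsg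
open Cfsg.Agent.ZN (o2 zc zl)
open Cfsg.Agent.Omega.MinPar Cfsg.Agent.Omega.Frame Cfsg.Agent.Omega.FFThm Cfsg.Agent.Omega.FrameMulti
open Cfsg.Agent.Omega.FrameFF (cv)
open Cfsg.Agent.Omega.Half.SymA (Pt)
open Cfsg.Agent.Omega.IId.SwCv (Lb FOne)
open Cfsg.Agent.Omega.F4Leaf.Cen.Main (PosExit)

universe u

/-- **`SwTT K`** from SYL^ -/
theorem swTT_of_hat {K : Cls.{u}} (hX : PosExit.{u}) (hS : ExHat.{u}) : SwTT K := by
  intro G _ _ S hH P k m M ε hL hk hm _ _ hD h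
  obtain ⟨μ, ν, F⟩ := SymWrD.exists_fours h.toSit
  obtain ⟨c, -, hc⟩ := Half.SymA.exists_third h.hm1 0 0
  obtain ⟨x, hx⟩ : ∃ x : Pt k m, x.2 ≠ 0 := ⟨(⟨0, h.hk⟩, c), hc⟩
  have h4 := four_le_zc hL (by omega : 0 < k) hD
  obtain ⟨T', hT', hodd, ht⟩ := hS G S P hL.A (cv (S : Subgroup G) P) k m hL.toBot (SymWrD.Hw.Fw.of_fr h) μ ν F x hx
    (SymWrD.Ht.HatEnd.zv h) h4
  obtain ⟨T, hTT, hTp, hTN, hTa, syl⟩ := SymWrD.Ht.HatEnd.exists_hat h F hx hT' hodd ht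
  obtain ⟨S', -, P', V', κ, R', o', r, z, hp⟩ :=
    SymWrD.Ht.HatEnd.exists_pos' h F hx hD (Or.inl hk) h4 hTT hTp hTN hTa syl
  have hH' := hH.conj S'
  exact hX G hH'.ctx S' hH'.full hH'.allIn P' V' κ R' o' r z hp

/-- **`SwCv K`** from SYL^ -/
theorem swCv_of_hat {K : Cls.{u}} (hX : PosExit.{u}) (hS : ExHat.{u}) (hPair : Cv.TTPair K) (hU : NatUn K)
    (hFr : FreeFour K) : SwCv K :=
  swCv_of'' (swTT_of_hat hX hS) (sylHat_of_fw hS) hPair hU hFr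

end Cfsg.Agent.Omega.IId.SwCvC
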