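import Cfsg.Agent.Mrg.Omega.IId.SwCv.SylHatOf
import Cfsg.Agent.Mrg.Omega.IId.SymWrD.Hw.SylEnd
import Cfsg.Agent.Mrg.Omega.IId.SwCv.TT

section


/-!
# II.d, `SwCv K`: `SylHat`, `SwMixW K` are theorems (helper79; SYL^: helper916, helper48; MIX-W: helper48)
-/

set_option autoImplicit false

namespace Cfsg.Agent.Omega.IId.SwCvC

open Subgroup Cfsg
open Cfsg.Agent.ZN.ChoiceBase hiding mem_zc
open Cfsg.Agent.Omega.MinPar Cfsg.Agent.Omega.Frame Cfsg.Agent.Omega.FFThm Cfsg.Agent.Omega.FrameMulti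
open Cfsg.Agent.Omega.FrameFF (cv)

universe u

/-- **THEOREM SYL^** (helper916, helper48). -/
theorem exHat : ExHat.{u} := by
  intro G _ _ S P V D k m M h μ ν F x hx zv h4
  obtain ⟨T, -, -, -, hT, hodd, ht⟩ := h.exists_hat F hx zv h4
  exact ⟨T, hT, hodd, ht⟩

theorem sylHat : SylHat.{u} := sylHat_of_fw exHat

/-- **`SwMixW K`**. -/
theorem swMixW (K : Cls.{u}) : SwMixW K := swMixW_of sylHat K

/-- **`SwCv K` from the case T-T.** -/
theorem swCv_of_tt {K : Cls.{u}} (hTT : SwTT K) (hPair : Cv.TTPair K) (hU : NatUn K) (hFr : FreeFour K) : SwCv K :=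
  swCv_of' hTT (swMixW K) hPair hU hFr

end Cfsg.Agent.Omega.IId.SwCvC

end

section


/-!
# II.d, `SwCv K`: case T-T modulo `PosExit` (plug over TT.lean (774) and SylHatFin.lean (79))

* `swTT : PosExit → SwTT K`; `swCv : PosExit → TTPair K → NatUn K → FreeFour K → SwCv K`.
-/

set_option autoImplicit false

namespace Cfsg.Agent.Omega.IId.SwCvC

open Subgroup Pointwise Cfsg
open Cfsg.Agent.ZN (o2 zc zl)
open Cfsg.Agent.Omega.MinPar Cfsg.Agent.Omega.Frame Cfsg.Agent.Omega.FFThm Cfsg.Agent.Omega.FrameMulti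
open Cfsg.Agent.Omega.F4Leaf.Cen.Main (PosExit)

universe u

theorem swTT {K : Cls.{u}} (hX : PosExit.{u}) : SwTT K := swTT_of_hat hX exHat

theorem swCv {K : Cls.{u}} (hX : PosExit.{u}) (hPair : Cv.TTPair K) (hU : NatUn K) (hFr : FreeFour K) : SwCv K :=
  swCv_of_hat hX exHat hPair hU hFr

end Cfsg.Agent.Omega.IId.SwCvC

end
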