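import Cfsg.Agent.Mrg.Omega.IId.SwCv.Cut
import Cfsg.Agent.Mrg.Omega.IId.SwCv.NatM.MixW

section


/-!
# II.d, `SwCv K`: `SwMixW K` from SYL^ (helper79)

`SylHat` (helper916, bb OMEGA #21666, partner-free form): `n = {a,b}` a duad whose transposition is induced by an element of
`S` and by an element of `K_n = {g ∈ C_G(n) : [O₂(C_G(n)), g] ≤ ⟨n⟩}`; then a subgroup of odd index in `C_G(n)`
normalises `{a,0}⟨n⟩`.

`swMixW_of : SylHat → SwMixW K` over helper48's `mix_w`.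
-/

set_option autoImplicit false
set_option linter.unusedSectionVars false

namespace Cfsg.Agent.Omega.IId.SwCvC

open Subgroup Pointwise Cfsg
open Cfsg.Agent.ZN.ChoiceBase hiding mem_zc
open Cfsg.Agent.ZN (o2 zc zl)
open Cfsg.Agent.Omega.MinPar Cfsg.Agent.Omega.Frame Cfsg.Agent.Omega.FFThm Cfsg.Agent.Omega.FrameMulti
open Cfsg.Agent.Omega.FrameFF (cv)
open Cfsg.Agent.Omega.IId.SwCv (Lb du FOne)
open Cfsg.Agent.Omega.IId.SwCv.Lb (SwA)
open Cfsg.Agent.Omega.IId.Cv (HypN)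
open Cfsg.Agent.Omega.IId.Triangle (KK mem_KK)
open scoped commutatorElement

universe u

/-- **SYL^** (helper916), partner-free. -/
def SylHat : Prop :=
  ∀ (G : Type u) [Group G] [Finite G] (S : Sylow 2 G) (P : Subgroup G) (k m : ℕ)
    (M : SymK (S : Subgroup G) P (zl (S : Subgroup G) P) (cv (S : Subgroup G) P) k m)
    (ε : Fin k → (Fin (2 ^ m + 1) → ZMod 2) → G), Lb M ε → IsCharacteristicTwoType G → 2 ≤ k → 2 ≤ m →
      IsParS (S : Subgroup G) P → FOne M ε → cv (S : Subgroup G) P ≠ ⊥ →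
      ∀ (i : Fin k) (a b : Fin (2 ^ m + 1)), a ≠ b → (∃ s ∈ (S : Subgroup G), SwA M s i a b) →
        (∃ w ∈ KK (du ε i a b), SwA M w i a b) →
        ∃ T' ≤ centralizer ({du ε i a b} : Set G), ¬ 2 ∣ T'.relIndex (centralizer ({du ε i a b} : Set G)) ∧
          ∀ t ∈ T', du ε i a 0 * t * (du ε i a 0)⁻¹ * t⁻¹ ∈ zpowers (du ε i a b)

/-- **MIX-W from SYL^.** -/
theorem swMixW_of (h : SylHat.{u}) (K : Cls.{u}) : SwMixW K := by
  classical
  intro G _ _ S hH P k m M ε hL hk hm hP hF hD i a b hab W₀ h4 hWS hn hWQ hcomm htr hmv hc hp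
  exfalso
  obtain ⟨w, hw, hs⟩ := hmv
  have hwS := hWS hw
  have hSP := hP.isLoc.le
  -- `0` is none of `a`, `b`
  have h0 : Equiv.swap a b 0 = 0 := by
    have h1 := M.fix0 w hwS _ _ hs i
    rwa [Function.update_self] at h1
  have ha0 : (0 : Fin (2 ^ m + 1)) ≠ a := by
    intro e
    rw [← e, Equiv.swap_apply_left] at h0
    exact hab (e.symm.trans h0.symm)
  have hb0 : (0 : Fin (2 ^ m + 1)) ≠ b := by
    intro e
    rw [← e, Equiv.swap_apply_right] at h0
    exact hab (h0.trans e)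
  have hnn := hL.du_mul_self i a b
  have hn1 : du ε i a b ≠ 1 := hL.du_ne_one hab
  have hwK : w ∈ KK (du ε i a b) := by
    have hwn : w * du ε i a b = du ε i a b * w := by
      have h1 := hWQ hw
      exact mem_centralizer_singleton_iff.1 (MinSimple.VModule.o2_le _ h1)
    refine mem_KK.2 ⟨hwn, fun x hx => ?_⟩
    have h1 := hcomm x hx w hw
    have e : w * x * w⁻¹ * x⁻¹ = (⁅x, w⁆)⁻¹ := by
      rw [commutatorElement_inv, commutatorElement_def]
    rw [e]
    rcases h1 with h1 | h1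
    · rw [h1, inv_one]; exact one_mem _
    · rw [h1]; exact inv_mem (mem_zpowers _)
  obtain ⟨T', hT, hodd, hbT⟩ := h G S P k m M ε hL hH.ctx.char2 hk hm hP hF hD i a b hab ⟨w, hwS, hs⟩ ⟨w, hwK, hs⟩
  refine SwCv.NatM.mix_w hL hF hab ha0 hb0 hm h4 ?_ hn ?_ hWQ ⟨w, hw, hSP hwS, hs⟩ hc ?_ hT hodd hbT
  · intro v hv
    by_cases hv1 : v = 1
    · rw [hv1, mul_one]
    · obtain ⟨g, -, e⟩ := htr _ hn v hv hn1 hv1
      rw [← e]
      calc g * du ε i a b * g⁻¹ * (g * du ε i a b * g⁻¹) = g * (du ε i a b * du ε i a b) * g⁻¹ := by group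
        _ = 1 := by rw [hnn]; group
  · intro v hv hv1
    exact htr _ hn v hv hn1 hv1
  · intro g hg v hv w' hw'
    by_contra hne
    exact hp ⟨g, hg, v, hv, w', hw', hne⟩

/-- **`SwCv K` from T-T and SYL^.** -/
theorem swCv_of'' {K : Cls.{u}} (hTT : SwTT K) (hW : SylHat.{u}) (hPair : Cv.TTPair K) (hU : NatUn K)
    (hFr : FreeFour K) : SwCv K :=
  swCv_of' hTT (swMixW_of hW K) hPair hU hFr

end Cfsg.Agent.Omega.IId.SwCvC

end

section


/-!
# II.d, `SwCv K`: SYL^ over `SymWrD.SitD` (helper79)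

`SylHatD` : SYL^ (helper916, bb OMEGA #21666) over helper573's `SitD`; `sylHat_of : SylHatD → SylHat`.
-/

set_option autoImplicit false
set_option linter.unusedSectionVars false

namespace Cfsg.Agent.Omega.IId.SwCvC

open Subgroup Pointwise Cfsg
open Cfsg.Agent.ZN.ChoiceBase hiding mem_zc
open Cfsg.Agent.ZN (o2 zc zl)
open Cfsg.Agent.Omega.MinPar Cfsg.Agent.Omega.Frame Cfsg.Agent.Omega.FFThm Cfsg.Agent.Omega.FrameMulti
open Cfsg.Agent.Omega.FrameFF (cv)
open Cfsg.Agent.Omega.Half.SymA (Pt E Mv)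
open Cfsg.Agent.Omega.IId.SwCv (Lb du FOne)
open Cfsg.Agent.Omega.IId.SwCv.Lb (SwA)
open Cfsg.Agent.Omega.IId.SymWrD (pr pp Fours SitD)
open Cfsg.Agent.Omega.IId.Triangle (KK mem_KK)
open Cfsg.Agent.Omega.HT.LineOf (Ln dd ln)
open scoped commutatorElement

universe u

/-- **SYL^** (helper916) over `SitD`. -/
def SylHatD : Prop :=
  ∀ (G : Type u) [Group G] [Finite G] (S : Sylow 2 G) (P V D : Subgroup G) (k m : ℕ)
    (M : SymK (S : Subgroup G) P V ⊥ k m), SitD S P V D M → IsCharacteristicTwoType G → 2 ≤ k → D ≠ ⊥ →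
      (∃ p q : Pt k m, p.1 = q.1 ∧ p ≠ q ∧ ∃ w ∈ KK (pr M p q), pp M w = Equiv.swap p q) →
      ∀ (μ ν : Equiv.Perm (Pt k m)) (_ : Fours M μ ν) (x : Pt k m), x.2 ≠ 0 →
        ∃ T ≤ centralizer ({pr M x (μ x)} : Set G), ¬ 2 ∣ T.relIndex (centralizer ({pr M x (μ x)} : Set G)) ∧
          ∀ t ∈ T, t * pr M x (x.1, 0) * t⁻¹ = pr M x (x.1, 0) ∨
            t * pr M x (x.1, 0) * t⁻¹ = pr M x (μ x) * pr M x (x.1, 0)

/-- an element of the normaliser of `{1, a, b, ab}` which commutes with `a` -/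
theorem conj_of_ln {G : Type u} [Group G] {a b : G} (h : Ln a b) {t : G} (ht : t ∈ normalizer (ln h : Set G))
    (hta : t * a = a * t) : t * b * t⁻¹ = b ∨ t * b * t⁻¹ = a * b := by
  have h1 : t * b * t⁻¹ ∈ ln h := (mem_normalizer_iff.1 ht b).1 ((mem_ln_iff h).2 (Or.inr (Or.inr (Or.inl rfl))))
  rcases (mem_ln_iff h).1 h1 with h2 | h2 | h2 | h2
  · exfalso
    apply h.b1
    have e : b = t⁻¹ * (t * b * t⁻¹) * t := by group
    rw [e, h2]; group
  · exfalso
    apply h.ne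
    have e : b = t⁻¹ * (t * b * t⁻¹) * t := by group
    rw [e, h2]
    calc a = t⁻¹ * (t * a) := by group
      _ = t⁻¹ * a * t := by rw [hta]; group
  · exact Or.inl h2
  · exact Or.inr h2

section bridge

variable {G : Type u} [Group G] [Finite G] {S : Sylow 2 G} {P : Subgroup G} {k m : ℕ}
  {M : SymK (S : Subgroup G) P (zl (S : Subgroup G) P) (cv (S : Subgroup G) P) k m}
  {ε : Fin k → (Fin (2 ^ m + 1) → ZMod 2) → G}

theorem pp_swap (hL : Lb M ε) (hG : IsCharacteristicTwoType G) (hP : IsParS (S : Subgroup G) P) (hk : 0 < k)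
    (hm : 2 ≤ m) {w : G} (hw : w ∈ P) {i : Fin k} {a b : Fin (2 ^ m + 1)} (hs : SwA M w i a b) :
    pp hL.toBot w = Equiv.swap ((i, a) : Pt k m) (i, b) := by
  classical
  have h := SymWrD.sitD_of_lb hG hP hL hk hm
  refine SymWrD.pp_eq h.toSit.amb h.toSit.hm1 hw ?_
  intro v hv p
  obtain ⟨j, x⟩ := p
  have h1 := hs v (hL.A_le hv) j x
  have h2 : Equiv.swap ((i, a) : Pt k m) (i, b) (j, x) =
      (j, (Function.update (1 : Fin k → Equiv.Perm (Fin (2 ^ m + 1))) i (Equiv.swap a b)) j x) := by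
    by_cases hj : j = i
    · subst hj
      rw [Function.update_self]
      by_cases hxa : x = a
      · subst hxa
        rw [Equiv.swap_apply_left, Equiv.swap_apply_left]
      · by_cases hxb : x = b
        · subst hxb
          rw [Equiv.swap_apply_right, Equiv.swap_apply_right]
        · rw [Equiv.swap_apply_of_ne_of_ne hxa hxb, Equiv.swap_apply_of_ne_of_ne]
          · exact fun e => hxa (congrArg Prod.snd e)
          · exact fun e => hxb (congrArg Prod.snd e)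
    · rw [Function.update_of_ne hj, Equiv.swap_apply_of_ne_of_ne]
      · rfl
      · exact fun e => hj (congrArg Prod.fst e)
      · exact fun e => hj (congrArg Prod.fst e)
  rw [h2]
  exact h1

/-- a duad whose transposition is induced by `S` -/
theorem mu_eq (hL : Lb M ε) (hG : IsCharacteristicTwoType G) (hP : IsParS (S : Subgroup G) P) (hk : 0 < k)
    (hm : 2 ≤ m) {μ ν : Equiv.Perm (Pt k m)} (F : Fours hL.toBot μ ν) {s : G} (hs : s ∈ (S : Subgroup G))
    {i : Fin k} {a b : Fin (2 ^ m + 1)} (hab : a ≠ b) (ha : a ≠ 0) (hsw : SwA M s i a b) :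
    μ ((i, a) : Pt k m) = (i, b) := by
  have h1 := pp_swap hL hG hP hk hm (hL.TH hs) hsw
  have h2 := F.meqv s hs (i, a)
  rw [h1, Equiv.swap_apply_left] at h2
  by_contra hne
  have h3 : μ ((i, a) : Pt k m) ≠ (i, a) := F.mne _ ha
  rw [Equiv.swap_apply_of_ne_of_ne h3 hne] at h2
  exact hab (congrArg Prod.snd (μ.injective h2))

end bridge

/-- **SYL^ in the labels.** -/
theorem sylHat_of (h : SylHatD.{u}) : SylHat.{u} := by
  classical
  intro G _ _ S P k m M ε hL hG hk hm hP hF hD i a b hab ⟨s, hs, hsw⟩ ⟨w, hw, hww⟩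
  have hk0 : 0 < k := by omega
  have hsit := SymWrD.sitD_of_lb hG hP hL hk0 hm
  obtain ⟨μ, ν, F⟩ := SymWrD.exists_fours hsit.toSit
  -- `0` is not `a`
  have h0 : Equiv.swap a b 0 = 0 := by
    have h1 := M.fix0 s hs _ _ hsw i
    rwa [Function.update_self] at h1
  have ha0 : a ≠ 0 := by
    intro e
    rw [e, Equiv.swap_apply_left] at h0
    exact hab (e.trans h0.symm)
  have hmu := mu_eq hL hG hP hk0 hm F hs hab ha0 hsw
  have hn : du ε i a b = pr hL.toBot ((i, a) : Pt k m) (μ (i, a)) := by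
    rw [hmu]; exact SymWrD.du_eq_pr hL i a b
  have hb0 : du ε i a 0 = pr hL.toBot ((i, a) : Pt k m) (i, 0) := SymWrD.du_eq_pr hL i a 0
  have hwP : w ∈ P := by
    have h1 : w ∈ o2 (centralizer ({du ε i a b} : Set G)) :=
      MinSimple.Geo.mem_o2_of_stab hG (hL.du_mul_self i a b) (hL.du_ne_one hab)
        (mem_centralizer_singleton_iff.2 (mem_KK.1 hw).1) (mem_KK.1 hw).2
    exact o2_le_P hG hP hL hk0 hm hab h1
  obtain ⟨T, hT, hodd, ht⟩ := h G S P hL.A (cv (S : Subgroup G) P) k m hL.toBot hsit hG hk hD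
    ⟨(i, a), (i, b), rfl, fun e => hab (congrArg Prod.snd e), w, by rwa [← SymWrD.du_eq_pr hL i a b],
      pp_swap hL hG hP hk0 hm hwP hww⟩ μ ν F (i, a) ha0
  rw [← hn] at hT hodd
  refine ⟨T, hT, hodd, fun t htT => ?_⟩
  have h1 := ht t htT
  rw [← hn] at h1
  change t * pr hL.toBot ((i, a) : Pt k m) (i, 0) * t⁻¹ = pr hL.toBot ((i, a) : Pt k m) (i, 0) ∨
    t * pr hL.toBot ((i, a) : Pt k m) (i, 0) * t⁻¹ = du ε i a b * pr hL.toBot ((i, a) : Pt k m) (i, 0) at h1
  rw [← hb0] at h1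
  have hbb := hL.du_mul_self i a 0
  have hnb := hL.comm _ (hL.du_mem i a b) _ (hL.du_mem i a 0)
  have hbi : (du ε i a 0)⁻¹ = du ε i a 0 := inv_eq_of_mul_eq_one_left hbb
  have e : du ε i a 0 * t * (du ε i a 0)⁻¹ * t⁻¹ = du ε i a 0 * (t * du ε i a 0 * t⁻¹) := by
    rw [hbi]; group
  rw [e]
  rcases h1 with h1 | h1
  · rw [h1, hbb]; exact one_mem _
  · rw [h1, hnb, ← mul_assoc, hbb, one_mul]; exact mem_zpowers _

end Cfsg.Agent.Omega.IId.SwCvC

end
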