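import Cfsg.Agent.Mrg.Omega.IId.SwCv.CutHat
import Cfsg.Agent.Mrg.Omega.IId.SwCv.SdOf
import Cfsg.Agent.Mrg.Omega.IId.SymWrD.Hw.Fw
import Cfsg.Agent.Mrg.Omega.IId.SymWrD.Ht.ZVD


/-!
# II.d, `SwCv K`: `SylHat` from helper916's frame `Hw.Fw` (helper79)

`ExHat` : `Fw.exists_hat` (bb OMEGA #22794) as a proposition; `sylHat_of_fw : ExHat → SylHat`.
-/

set_option autoImplicit false
set_option linter.unusedSectionVars false

namespace Cfsg.Agent.Omega.IId.SwCvC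

open Subgroup Pointwise Cfsg
open Cfsg.Agent.ZN.ChoiceBase hiding mem_zc
open Cfsg.Agent.ZN (o2 zc zl)
open Cfsg.Agent.Omega.MinPar Cfsg.Agent.Omega.Frame Cfsg.Agent.Omega.FFThm Cfsg.Agent.Omega.FrameMulti
open Cfsg.Agent.Omega.FrameFF (cv)
open Cfsg.Agent.Omega.Half.SymA (Pt E Mv)
open Cfsg.Agent.Omega.IId.SwCv (Lb du FOne)
open Cfsg.Agent.Omega.IId.SwCv.Lb (SwA)
open Cfsg.Agent.Omega.IId.SymWrD (pr pp Fours SitD)
open Cfsg.Agent.Omega.IId.SymWrD.Ht (DD mem_DD)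
open Cfsg.Agent.Omega.IId.Triangle (KK mem_KK)

universe u

/-- `Fw.exists_hat` (helper916). -/
def ExHat : Prop :=
  ∀ (G : Type u) [Group G] [Finite G] (S : Sylow 2 G) (P V D : Subgroup G) (k m : ℕ)
    (M : SymK (S : Subgroup G) P V ⊥ k m), SymWrD.Hw.Fw S P V D M →
      ∀ (μ ν : Equiv.Perm (Pt k m)) (_ : Fours M μ ν) (x : Pt k m), x.2 ≠ 0 → zc (o2 P) ≤ V ⊔ DD M →
        4 ≤ Nat.card (zc (S : Subgroup G)) →
        ∃ T ≤ centralizer ({pr M x (μ x)} : Set G), ¬ 2 ∣ T.relIndex (centralizer ({pr M x (μ x)} : Set G)) ∧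
          ∀ t ∈ T, t * pr M x (x.1, 0) * t⁻¹ = pr M x (x.1, 0) ∨
            t * pr M x (x.1, 0) * t⁻¹ = pr M x (x.1, 0) * pr M x (μ x)

/-- (ZV_D) in the form used -/
theorem zv_of {G : Type u} [Group G] [Finite G] {S : Sylow 2 G} {P V D : Subgroup G} {k m : ℕ}
    {M : SymK (S : Subgroup G) P V ⊥ k m} (hG : IsCharacteristicTwoType G) (h : SitD S P V D M)
    (hw : ∃ p q : Pt k m, p.1 = q.1 ∧ p ≠ q ∧ ∃ w ∈ KK (pr M p q), pp M w = Equiv.swap p q) :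
    zc (o2 P) ≤ V ⊔ DD M := by
  intro z hz
  obtain ⟨v, hv, d, hd, e, h1, -⟩ := (SymWrD.Ht.TD.of_sitD hG h hw).zvD hz
  rw [e]
  exact mul_mem (mem_sup_left hv) (mem_sup_right (mem_DD.2 ⟨hd, h1⟩))

/-- **SYL^ in the labels.** -/
theorem sylHat_of_fw (h : ExHat.{u}) : SylHat.{u} := by
  classical
  intro G _ _ S P k m M ε hL hG hk hm hP hF hD i a b hab ⟨s, hs, hsw⟩ ⟨w, hw, hww⟩
  have hk0 : 0 < k := by omega
  have hsit := SymWrD.sitD_of_lb hG hP hL hk0 hm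
  obtain ⟨μ, ν, F⟩ := SymWrD.exists_fours hsit.toSit
  -- `0` is not `a`
  have h0 : Equiv.swap a b 0 = 0 := by
    have h1 := M.fix0 s hs _ _ hsw i
    rwa [Function.update_self] at h1
  have ha0 : a ≠ 0 := by
    intro e
    rw [e, Equiv.swap_apply_left] at h0
    exact hab (e.trans h0.symm)
  have hmu := mu_eq hL hG hP hk0 hm F hs hab ha0 hsw
  have hn : du ε i a b = pr hL.toBot ((i, a) : Pt k m) (μ (i, a)) := by
    rw [hmu]; exact SymWrD.du_eq_pr hL i a b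
  have hb0 : du ε i a 0 = pr hL.toBot ((i, a) : Pt k m) (i, 0) := SymWrD.du_eq_pr hL i a 0
  have hwP : w ∈ P := by
    have h1 : w ∈ o2 (centralizer ({du ε i a b} : Set G)) :=
      MinSimple.Geo.mem_o2_of_stab hG (hL.du_mul_self i a b) (hL.du_ne_one hab)
        (mem_centralizer_singleton_iff.2 (mem_KK.1 hw).1) (mem_KK.1 hw).2
    exact o2_le_P hG hP hL hk0 hm hab h1
  have hpar : ∃ p q : Pt k m, p.1 = q.1 ∧ p ≠ q ∧ ∃ w ∈ KK (pr hL.toBot p q), pp hL.toBot w = Equiv.swap p q :=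
    ⟨(i, a), (i, b), rfl, fun e => hab (congrArg Prod.snd e), w, by rwa [← SymWrD.du_eq_pr hL i a b],
      pp_swap hL hG hP hk0 hm hwP hww⟩
  have hsd := SwCv.sd_of hG hP hL hk0 hm hab hw hwP hww
  obtain ⟨T, hT, hodd, ht⟩ := h G S P hL.A (cv (S : Subgroup G) P) k m hL.toBot
    (SymWrD.Hw.Fw.of_sd hsit hsd) μ ν F (i, a) ha0 (zv_of hG hsit hpar) (four_le_zc hL hk0 hD)
  rw [← hn] at hT hodd
  refine ⟨T, hT, hodd, fun t htT => ?_⟩
  have h1 := ht t htT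
  rw [← hn] at h1
  change t * pr hL.toBot ((i, a) : Pt k m) (i, 0) * t⁻¹ = pr hL.toBot ((i, a) : Pt k m) (i, 0) ∨
    t * pr hL.toBot ((i, a) : Pt k m) (i, 0) * t⁻¹ = pr hL.toBot ((i, a) : Pt k m) (i, 0) * du ε i a b at h1
  rw [← hb0] at h1
  have hbb := hL.du_mul_self i a 0
  have hbi : (du ε i a 0)⁻¹ = du ε i a 0 := inv_eq_of_mul_eq_one_left hbb
  have e : du ε i a 0 * t * (du ε i a 0)⁻¹ * t⁻¹ = du ε i a 0 * (t * du ε i a 0 * t⁻¹) := by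
    rw [hbi]; group
  rw [e]
  rcases h1 with h1 | h1
  · rw [h1, hbb]; exact one_mem _
  · rw [h1, ← mul_assoc, hbb, one_mul]; exact mem_zpowers _

end Cfsg.Agent.Omega.IId.SwCvC
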